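import Cfsg.Agent.Lib.LyTwo.Engine
import Cfsg.Agent.Lib.LyTwo.Cert.Mats0
import Cfsg.Agent.Lib.LyRep.Cert.Mats0
import Cfsg.Agent.Lib.LyRep.Cert.Mats1
import Cfsg.Agent.Lib.LyRep.Cert.Mats2
import Cfsg.Agent.Lib.LyRep.Cert.Mats3
import Cfsg.Agent.Lib.LyRep.Cert.Mats4
import Cfsg.Agent.Lib.LyRep.Cert.Mats5

/-! Generated checks of inverses. -/
set_option autoImplicit false

namespace CfsgLib.LyRep.Cert

theorem inv_a_1 : CfsgLib.LyTwo.mulCheck 111 111 CfsgLib.LyTwo.Cert.m1 i_a CfsgLib.LyTwo.Cert.m0 = true := by decide +kernel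

theorem inv_a_0 : CfsgLib.LyTwo.mulCheck 111 111 i_a CfsgLib.LyTwo.Cert.m1 CfsgLib.LyTwo.Cert.m0 = true := by decide +kernel

theorem inv_b_1 : CfsgLib.LyTwo.mulCheck 111 111 CfsgLib.LyTwo.Cert.m2 i_b CfsgLib.LyTwo.Cert.m0 = true := by decide +kernel

theorem inv_b_0 : CfsgLib.LyTwo.mulCheck 111 111 i_b CfsgLib.LyTwo.Cert.m2 CfsgLib.LyTwo.Cert.m0 = true := by decide +kernel

theorem inv_c_1 : CfsgLib.LyTwo.mulCheck 111 111 CfsgLib.LyTwo.Cert.m3 i_c CfsgLib.LyTwo.Cert.m0 = true := by decide +kernel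

theorem inv_c_0 : CfsgLib.LyTwo.mulCheck 111 111 i_c CfsgLib.LyTwo.Cert.m3 CfsgLib.LyTwo.Cert.m0 = true := by decide +kernel

theorem inv_d_1 : CfsgLib.LyTwo.mulCheck 111 111 CfsgLib.LyTwo.Cert.m4 i_d CfsgLib.LyTwo.Cert.m0 = true := by decide +kernel

theorem inv_d_0 : CfsgLib.LyTwo.mulCheck 111 111 i_d CfsgLib.LyTwo.Cert.m4 CfsgLib.LyTwo.Cert.m0 = true := by decide +kernel

theorem inv_z_1 : CfsgLib.LyTwo.mulCheck 111 111 CfsgLib.LyTwo.Cert.m5 i_z CfsgLib.LyTwo.Cert.m0 = true := by decide +kernel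

theorem inv_z_0 : CfsgLib.LyTwo.mulCheck 111 111 i_z CfsgLib.LyTwo.Cert.m5 CfsgLib.LyTwo.Cert.m0 = true := by decide +kernel

theorem inv_e_1 : CfsgLib.LyTwo.mulCheck 111 111 g_e i_e CfsgLib.LyTwo.Cert.m0 = true := by decide +kernel

theorem inv_e_0 : CfsgLib.LyTwo.mulCheck 111 111 i_e g_e CfsgLib.LyTwo.Cert.m0 = true := by decide +kernel

theorem inv_a1_1 : CfsgLib.LyTwo.mulCheck 111 111 g_a1 i_a1 CfsgLib.LyTwo.Cert.m0 = true := by decide +kernel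

theorem inv_a1_0 : CfsgLib.LyTwo.mulCheck 111 111 i_a1 g_a1 CfsgLib.LyTwo.Cert.m0 = true := by decide +kernel

end CfsgLib.LyRep.Cert
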