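import Cfsg.Agent.Lib.LyTwo.Engine
import Cfsg.Agent.Lib.LyTwo.Cert.Mats0
import Cfsg.Agent.Lib.LyRep.Cert.Mats0
import Cfsg.Agent.Lib.LyRep.Cert.Mats1
import Cfsg.Agent.Lib.LyRep.Cert.Mats2
import Cfsg.Agent.Lib.LyRep.Cert.Mats3
import Cfsg.Agent.Lib.LyRep.Cert.Mats4
import Cfsg.Agent.Lib.LyRep.Cert.Mats5

/-! Generated checks of inverses. -/
set_option autoImplicit false

namespace CfsgLib.LyRep.Cert

theorem inv_a2_1 : CfsgLib.LyTwo.mulCheck 111 111 g_a2 i_a2 CfsgLib.LyTwo.Cert.m0 = true := by decide +kernel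

theorem inv_a2_0 : CfsgLib.LyTwo.mulCheck 111 111 i_a2 g_a2 CfsgLib.LyTwo.Cert.m0 = true := by decide +kernel

theorem inv_a3_1 : CfsgLib.LyTwo.mulCheck 111 111 g_a3 i_a3 CfsgLib.LyTwo.Cert.m0 = true := by decide +kernel

theorem inv_a3_0 : CfsgLib.LyTwo.mulCheck 111 111 i_a3 g_a3 CfsgLib.LyTwo.Cert.m0 = true := by decide +kernel

theorem inv_a4_1 : CfsgLib.LyTwo.mulCheck 111 111 g_a4 i_a4 CfsgLib.LyTwo.Cert.m0 = true := by decide +kernel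

theorem inv_a4_0 : CfsgLib.LyTwo.mulCheck 111 111 i_a4 g_a4 CfsgLib.LyTwo.Cert.m0 = true := by decide +kernel

theorem inv_c1_1 : CfsgLib.LyTwo.mulCheck 111 111 g_c1 i_c1 CfsgLib.LyTwo.Cert.m0 = true := by decide +kernel

theorem inv_c1_0 : CfsgLib.LyTwo.mulCheck 111 111 i_c1 g_c1 CfsgLib.LyTwo.Cert.m0 = true := by decide +kernel

theorem inv_c2_1 : CfsgLib.LyTwo.mulCheck 111 111 g_c2 i_c2 CfsgLib.LyTwo.Cert.m0 = true := by decide +kernel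

theorem inv_c2_0 : CfsgLib.LyTwo.mulCheck 111 111 i_c2 g_c2 CfsgLib.LyTwo.Cert.m0 = true := by decide +kernel

theorem inv_c3_1 : CfsgLib.LyTwo.mulCheck 111 111 g_c3 i_c3 CfsgLib.LyTwo.Cert.m0 = true := by decide +kernel

theorem inv_c3_0 : CfsgLib.LyTwo.mulCheck 111 111 i_c3 g_c3 CfsgLib.LyTwo.Cert.m0 = true := by decide +kernel

theorem inv_c4_1 : CfsgLib.LyTwo.mulCheck 111 111 g_c4 i_c4 CfsgLib.LyTwo.Cert.m0 = true := by decide +kernel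

theorem inv_c4_0 : CfsgLib.LyTwo.mulCheck 111 111 i_c4 g_c4 CfsgLib.LyTwo.Cert.m0 = true := by decide +kernel

end CfsgLib.LyRep.Cert
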