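import Cfsg.Agent.Lib.LyTwo.Engine
import Cfsg.Agent.Lib.LyTwo.Cert.Mats0
import Cfsg.Agent.Lib.LyRep.Cert.Mats0
import Cfsg.Agent.Lib.LyRep.Cert.Mats1
import Cfsg.Agent.Lib.LyRep.Cert.Mats2
import Cfsg.Agent.Lib.LyRep.Cert.Mats3
import Cfsg.Agent.Lib.LyRep.Cert.Mats4
import Cfsg.Agent.Lib.LyRep.Cert.Mats5

/-! Generated checks of inverses. -/
set_option autoImplicit false

namespace CfsgLib.LyRep.Cert

theorem inv_c5_1 : CfsgLib.LyTwo.mulCheck 111 111 g_c5 i_c5 CfsgLib.LyTwo.Cert.m0 = true := by decide +kernel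

theorem inv_c5_0 : CfsgLib.LyTwo.mulCheck 111 111 i_c5 g_c5 CfsgLib.LyTwo.Cert.m0 = true := by decide +kernel

theorem inv_u_1 : CfsgLib.LyTwo.mulCheck 111 111 g_u i_u CfsgLib.LyTwo.Cert.m0 = true := by decide +kernel

theorem inv_u_0 : CfsgLib.LyTwo.mulCheck 111 111 i_u g_u CfsgLib.LyTwo.Cert.m0 = true := by decide +kernel

theorem inv_x23_1 : CfsgLib.LyTwo.mulCheck 111 111 g_x23 i_x23 CfsgLib.LyTwo.Cert.m0 = true := by decide +kernel

theorem inv_x23_0 : CfsgLib.LyTwo.mulCheck 111 111 i_x23 g_x23 CfsgLib.LyTwo.Cert.m0 = true := by decide +kernel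

theorem inv_x24_1 : CfsgLib.LyTwo.mulCheck 111 111 g_x24 i_x24 CfsgLib.LyTwo.Cert.m0 = true := by decide +kernel

theorem inv_x24_0 : CfsgLib.LyTwo.mulCheck 111 111 i_x24 g_x24 CfsgLib.LyTwo.Cert.m0 = true := by decide +kernel

theorem inv_x25_1 : CfsgLib.LyTwo.mulCheck 111 111 g_x25 i_x25 CfsgLib.LyTwo.Cert.m0 = true := by decide +kernel

theorem inv_x25_0 : CfsgLib.LyTwo.mulCheck 111 111 i_x25 g_x25 CfsgLib.LyTwo.Cert.m0 = true := by decide +kernel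

theorem inv_x29_1 : CfsgLib.LyTwo.mulCheck 111 111 g_x29 i_x29 CfsgLib.LyTwo.Cert.m0 = true := by decide +kernel

theorem inv_x29_0 : CfsgLib.LyTwo.mulCheck 111 111 i_x29 g_x29 CfsgLib.LyTwo.Cert.m0 = true := by decide +kernel

theorem inv_x47_1 : CfsgLib.LyTwo.mulCheck 111 111 g_x47 i_x47 CfsgLib.LyTwo.Cert.m0 = true := by decide +kernel

theorem inv_x47_0 : CfsgLib.LyTwo.mulCheck 111 111 i_x47 g_x47 CfsgLib.LyTwo.Cert.m0 = true := by decide +kernel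

end CfsgLib.LyRep.Cert
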