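import Cfsg.Agent.Lib.LyTwo.Engine
import Cfsg.Agent.Lib.LyTwo.Cert.Mats0
import Cfsg.Agent.Lib.LyRep.Cert.Mats0
import Cfsg.Agent.Lib.LyRep.Cert.Mats1
import Cfsg.Agent.Lib.LyRep.Cert.Mats2
import Cfsg.Agent.Lib.LyRep.Cert.Mats3
import Cfsg.Agent.Lib.LyRep.Cert.Mats4
import Cfsg.Agent.Lib.LyRep.Cert.Mats5

/-! Generated checks of inverses. -/
set_option autoImplicit false

namespace CfsgLib.LyRep.Cert

theorem inv_x96_1 : CfsgLib.LyTwo.mulCheck 111 111 g_x96 i_x96 CfsgLib.LyTwo.Cert.m0 = true := by decide +kernel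

theorem inv_x96_0 : CfsgLib.LyTwo.mulCheck 111 111 i_x96 g_x96 CfsgLib.LyTwo.Cert.m0 = true := by decide +kernel

theorem inv_x129_1 : CfsgLib.LyTwo.mulCheck 111 111 g_x129 i_x129 CfsgLib.LyTwo.Cert.m0 = true := by decide +kernel

theorem inv_x129_0 : CfsgLib.LyTwo.mulCheck 111 111 i_x129 g_x129 CfsgLib.LyTwo.Cert.m0 = true := by decide +kernel

theorem inv_x162_1 : CfsgLib.LyTwo.mulCheck 111 111 g_x162 i_x162 CfsgLib.LyTwo.Cert.m0 = true := by decide +kernel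

theorem inv_x162_0 : CfsgLib.LyTwo.mulCheck 111 111 i_x162 g_x162 CfsgLib.LyTwo.Cert.m0 = true := by decide +kernel

theorem inv_x163_1 : CfsgLib.LyTwo.mulCheck 111 111 g_x163 i_x163 CfsgLib.LyTwo.Cert.m0 = true := by decide +kernel

theorem inv_x163_0 : CfsgLib.LyTwo.mulCheck 111 111 i_x163 g_x163 CfsgLib.LyTwo.Cert.m0 = true := by decide +kernel

theorem inv_x164_1 : CfsgLib.LyTwo.mulCheck 111 111 g_x164 i_x164 CfsgLib.LyTwo.Cert.m0 = true := by decide +kernel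

theorem inv_x164_0 : CfsgLib.LyTwo.mulCheck 111 111 i_x164 g_x164 CfsgLib.LyTwo.Cert.m0 = true := by decide +kernel

theorem inv_x165_1 : CfsgLib.LyTwo.mulCheck 111 111 g_x165 i_x165 CfsgLib.LyTwo.Cert.m0 = true := by decide +kernel

theorem inv_x165_0 : CfsgLib.LyTwo.mulCheck 111 111 i_x165 g_x165 CfsgLib.LyTwo.Cert.m0 = true := by decide +kernel

theorem inv_x166_1 : CfsgLib.LyTwo.mulCheck 111 111 g_x166 i_x166 CfsgLib.LyTwo.Cert.m0 = true := by decide +kernel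

theorem inv_x166_0 : CfsgLib.LyTwo.mulCheck 111 111 i_x166 g_x166 CfsgLib.LyTwo.Cert.m0 = true := by decide +kernel

end CfsgLib.LyRep.Cert
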