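import Cfsg.Agent.Lib.LyTwo.Engine
import Cfsg.Agent.Lib.LyTwo.Cert.Mats0
import Cfsg.Agent.Lib.LyRep.Cert.Mats0
import Cfsg.Agent.Lib.LyRep.Cert.Mats1
import Cfsg.Agent.Lib.LyRep.Cert.Mats2
import Cfsg.Agent.Lib.LyRep.Cert.Mats3
import Cfsg.Agent.Lib.LyRep.Cert.Mats4
import Cfsg.Agent.Lib.LyRep.Cert.Mats5

/-! Generated checks of inverses. -/
set_option autoImplicit false

namespace CfsgLib.LyRep.Cert

theorem inv_x167_1 : CfsgLib.LyTwo.mulCheck 111 111 g_x167 i_x167 CfsgLib.LyTwo.Cert.m0 = true := by decide +kernel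

theorem inv_x167_0 : CfsgLib.LyTwo.mulCheck 111 111 i_x167 g_x167 CfsgLib.LyTwo.Cert.m0 = true := by decide +kernel

theorem inv_x168_1 : CfsgLib.LyTwo.mulCheck 111 111 g_x168 i_x168 CfsgLib.LyTwo.Cert.m0 = true := by decide +kernel

theorem inv_x168_0 : CfsgLib.LyTwo.mulCheck 111 111 i_x168 g_x168 CfsgLib.LyTwo.Cert.m0 = true := by decide +kernel

theorem inv_x169_1 : CfsgLib.LyTwo.mulCheck 111 111 g_x169 i_x169 CfsgLib.LyTwo.Cert.m0 = true := by decide +kernel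

theorem inv_x169_0 : CfsgLib.LyTwo.mulCheck 111 111 i_x169 g_x169 CfsgLib.LyTwo.Cert.m0 = true := by decide +kernel

theorem inv_x364_1 : CfsgLib.LyTwo.mulCheck 111 111 g_x364 i_x364 CfsgLib.LyTwo.Cert.m0 = true := by decide +kernel

theorem inv_x364_0 : CfsgLib.LyTwo.mulCheck 111 111 i_x364 g_x364 CfsgLib.LyTwo.Cert.m0 = true := by decide +kernel

theorem inv_x365_1 : CfsgLib.LyTwo.mulCheck 111 111 g_x365 i_x365 CfsgLib.LyTwo.Cert.m0 = true := by decide +kernel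

theorem inv_x365_0 : CfsgLib.LyTwo.mulCheck 111 111 i_x365 g_x365 CfsgLib.LyTwo.Cert.m0 = true := by decide +kernel

theorem inv_x366_1 : CfsgLib.LyTwo.mulCheck 111 111 g_x366 i_x366 CfsgLib.LyTwo.Cert.m0 = true := by decide +kernel

theorem inv_x366_0 : CfsgLib.LyTwo.mulCheck 111 111 i_x366 g_x366 CfsgLib.LyTwo.Cert.m0 = true := by decide +kernel

theorem inv_x367_1 : CfsgLib.LyTwo.mulCheck 111 111 g_x367 i_x367 CfsgLib.LyTwo.Cert.m0 = true := by decide +kernel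

theorem inv_x367_0 : CfsgLib.LyTwo.mulCheck 111 111 i_x367 g_x367 CfsgLib.LyTwo.Cert.m0 = true := by decide +kernel

end CfsgLib.LyRep.Cert
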