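import Cfsg.Agent.Lib.LyTwo.Engine
import Cfsg.Agent.Lib.LyTwo.Cert.Mats0
import Cfsg.Agent.Lib.LyRep.Cert.Mats0
import Cfsg.Agent.Lib.LyRep.Cert.Mats1
import Cfsg.Agent.Lib.LyRep.Cert.Mats2
import Cfsg.Agent.Lib.LyRep.Cert.Mats3
import Cfsg.Agent.Lib.LyRep.Cert.Mats4
import Cfsg.Agent.Lib.LyRep.Cert.Mats5

/-! Generated checks of inverses. -/
set_option autoImplicit false

namespace CfsgLib.LyRep.Cert

theorem inv_x368_1 : CfsgLib.LyTwo.mulCheck 111 111 g_x368 i_x368 CfsgLib.LyTwo.Cert.m0 = true := by decide +kernel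

theorem inv_x368_0 : CfsgLib.LyTwo.mulCheck 111 111 i_x368 g_x368 CfsgLib.LyTwo.Cert.m0 = true := by decide +kernel

theorem inv_x369_1 : CfsgLib.LyTwo.mulCheck 111 111 g_x369 i_x369 CfsgLib.LyTwo.Cert.m0 = true := by decide +kernel

theorem inv_x369_0 : CfsgLib.LyTwo.mulCheck 111 111 i_x369 g_x369 CfsgLib.LyTwo.Cert.m0 = true := by decide +kernel

theorem inv_x370_1 : CfsgLib.LyTwo.mulCheck 111 111 g_x370 i_x370 CfsgLib.LyTwo.Cert.m0 = true := by decide +kernel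

theorem inv_x370_0 : CfsgLib.LyTwo.mulCheck 111 111 i_x370 g_x370 CfsgLib.LyTwo.Cert.m0 = true := by decide +kernel

theorem inv_x371_1 : CfsgLib.LyTwo.mulCheck 111 111 g_x371 i_x371 CfsgLib.LyTwo.Cert.m0 = true := by decide +kernel

theorem inv_x371_0 : CfsgLib.LyTwo.mulCheck 111 111 i_x371 g_x371 CfsgLib.LyTwo.Cert.m0 = true := by decide +kernel

end CfsgLib.LyRep.Cert
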