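import Cfsg.Agent.Lib.LyRep.Engine
import Cfsg.Agent.Lib.LyRep.Cert.Mats0
import Cfsg.Agent.Lib.LyRep.Cert.Mats3

/-! Generated checks of relators. -/
set_option autoImplicit false

namespace CfsgLib.LyRep.Cert

theorem rel9 : wordCheck 111 [g_c5, i_c2, i_c1, g_c2, g_c1] = true := by decide +kernel

theorem rel10 : wordCheck 111 [g_c1, g_c1, g_c1, g_c1, g_c1] = true := by decide +kernel

theorem rel11 : wordCheck 111 [g_c5, g_c5, g_c5, g_c5, g_c5] = true := by decide +kernel

theorem rel12 : wordCheck 111 [i_c1, i_c5, g_c1, g_c5] = true := by decide +kernel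

theorem rel13 : wordCheck 111 [i_c2, i_c5, g_c2, g_c5] = true := by decide +kernel

theorem rel14 : wordCheck 111 [i_c3, i_c5, g_c3, g_c5] = true := by decide +kernel

end CfsgLib.LyRep.Cert
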