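import Cfsg.Agent.Lib.LyRep.Engine
import Cfsg.Agent.Lib.LyRep.Cert.Mats0
import Cfsg.Agent.Lib.LyRep.Cert.Mats2
import Cfsg.Agent.Lib.LyRep.Cert.Mats4
import Cfsg.Agent.Lib.LyTwo.Cert.Mats0

/-! Generated checks of relators. -/
set_option autoImplicit false

namespace CfsgLib.LyRep.Cert

theorem rel71 : wordCheck 111 [g_x371, i_b, CfsgLib.LyTwo.Cert.m1, CfsgLib.LyTwo.Cert.m2, CfsgLib.LyTwo.Cert.m1, CfsgLib.LyTwo.Cert.m2, i_c, i_a, i_c, CfsgLib.LyTwo.Cert.m1, i_c, CfsgLib.LyTwo.Cert.m4, CfsgLib.LyTwo.Cert.m3, i_b, i_c, CfsgLib.LyTwo.Cert.m1, CfsgLib.LyTwo.Cert.m3] = true := by decide +kernel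

theorem rel72 : wordCheck 111 [i_z, g_c1, CfsgLib.LyTwo.Cert.m5, i_x162] = true := by decide +kernel

theorem rel73 : wordCheck 111 [i_z, g_c2, CfsgLib.LyTwo.Cert.m5, i_x163] = true := by decide +kernel

theorem rel74 : wordCheck 111 [i_z, g_c3, CfsgLib.LyTwo.Cert.m5, i_x164] = true := by decide +kernel

end CfsgLib.LyRep.Cert
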