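import Cfsg.Agent.Lib.LyRep.Engine
import Cfsg.Agent.Lib.LyRep.Cert.Mats0
import Cfsg.Agent.Lib.LyRep.Cert.Mats2
import Cfsg.Agent.Lib.LyRep.Cert.Mats3
import Cfsg.Agent.Lib.LyRep.Cert.Mats4
import Cfsg.Agent.Lib.LyTwo.Cert.Mats0

/-! Generated checks of relators. -/
set_option autoImplicit false

namespace CfsgLib.LyRep.Cert

theorem rel75 : wordCheck 111 [i_z, g_c4, CfsgLib.LyTwo.Cert.m5, i_x165] = true := by decide +kernel

theorem rel76 : wordCheck 111 [i_z, g_c5, CfsgLib.LyTwo.Cert.m5, i_x166] = true := by decide +kernel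

theorem rel77 : wordCheck 111 [i_z, g_a1, CfsgLib.LyTwo.Cert.m5, i_x167] = true := by decide +kernel

theorem rel78 : wordCheck 111 [i_z, g_a2, CfsgLib.LyTwo.Cert.m5, i_x168] = true := by decide +kernel

theorem rel79 : wordCheck 111 [i_z, g_a3, CfsgLib.LyTwo.Cert.m5, i_x169] = true := by decide +kernel

theorem rel80 : wordCheck 111 [CfsgLib.LyTwo.Cert.m5, CfsgLib.LyTwo.Cert.m5, i_u] = true := by decide +kernel

theorem rel81 : wordCheck 111 [g_a4, CfsgLib.LyTwo.Cert.m5, g_a4, CfsgLib.LyTwo.Cert.m5, g_a4, CfsgLib.LyTwo.Cert.m5, g_u] = true := by decide +kernel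

end CfsgLib.LyRep.Cert
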