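import Cfsg.Agent.Lib.LyRep.Engine
import Cfsg.Agent.Lib.LyRep.Cert.Mats0
import Cfsg.Agent.Lib.LyRep.Cert.Mats1
import Cfsg.Agent.Lib.LyRep.Cert.Mats2
import Cfsg.Agent.Lib.LyTwo.Cert.Mats0

/-! Generated checks of relators. -/
set_option autoImplicit false

namespace CfsgLib.LyRep.Cert

theorem rel82 : wordCheck 111 [g_x47, CfsgLib.LyTwo.Cert.m5, g_x364, CfsgLib.LyTwo.Cert.m5, g_x368, CfsgLib.LyTwo.Cert.m5] = true := by decide +kernel

theorem rel83 : wordCheck 111 [i_z, g_x24, i_z, g_x369, CfsgLib.LyTwo.Cert.m5, g_x23, CfsgLib.LyTwo.Cert.m5, g_x29] = true := by decide +kernel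

theorem rel84 : wordCheck 111 [CfsgLib.LyTwo.Cert.m5, g_x366, CfsgLib.LyTwo.Cert.m5, g_x365, i_z, g_x367, i_z, g_x370] = true := by decide +kernel

theorem rel85 : wordCheck 111 [CfsgLib.LyTwo.Cert.m5, g_x96, CfsgLib.LyTwo.Cert.m5, g_x25, i_z, g_x129, i_z, g_x371] = true := by decide +kernel

end CfsgLib.LyRep.Cert
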