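import Cfsg.Agent.Lib.LyRep.Engine
import Cfsg.Agent.Lib.LyRep.Cert.Mats0
import Cfsg.Agent.Lib.LyRep.Cert.Mats3

/-! Generated checks of relators. -/
set_option autoImplicit false

namespace CfsgLib.LyRep.Cert

theorem rel15 : wordCheck 111 [i_c4, i_c5, g_c4, g_c5] = true := by decide +kernel

theorem rel16 : wordCheck 111 [i_c1, i_c3, g_c1, g_c3, g_c5, g_c5] = true := by decide +kernel

theorem rel17 : wordCheck 111 [i_c1, i_c4, g_c1, g_c4, i_c5, i_c5] = true := by decide +kernel

theorem rel18 : wordCheck 111 [i_c2, i_c3, g_c2, g_c3, g_c5] = true := by decide +kernel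

theorem rel19 : wordCheck 111 [i_c2, i_c4, g_c2, g_c4] = true := by decide +kernel

theorem rel20 : wordCheck 111 [i_c3, i_c4, g_c3, g_c4, g_c5] = true := by decide +kernel

end CfsgLib.LyRep.Cert
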