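import Cfsg.Agent.Lib.LyRep.Engine
import Cfsg.Agent.Lib.LyRep.Cert.Mats0
import Cfsg.Agent.Lib.LyRep.Cert.Mats2
import Cfsg.Agent.Lib.LyRep.Cert.Mats3
import Cfsg.Agent.Lib.LyTwo.Cert.Mats0

/-! Generated checks of relators. -/
set_option autoImplicit false

namespace CfsgLib.LyRep.Cert

theorem rel36 : wordCheck 111 [g_e, CfsgLib.LyTwo.Cert.m1, CfsgLib.LyTwo.Cert.m2, CfsgLib.LyTwo.Cert.m2, CfsgLib.LyTwo.Cert.m1, i_b, CfsgLib.LyTwo.Cert.m1, g_e, g_c4, i_c5, i_c1, i_a, i_a] = true := by decide +kernel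

theorem rel37 : wordCheck 111 [g_e, g_c2, g_e, i_c2, g_e, g_c2, i_c4, CfsgLib.LyTwo.Cert.m1, g_c3, CfsgLib.LyTwo.Cert.m1, CfsgLib.LyTwo.Cert.m1, CfsgLib.LyTwo.Cert.m1] = true := by decide +kernel

end CfsgLib.LyRep.Cert
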