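import Cfsg.Prelude.Def_Spor_Ly
import Cfsg.Agent.Lib.LyRep.Engine
import Cfsg.Agent.Lib.LyRep.Cert.Rels0
import Cfsg.Agent.Lib.LyRep.Cert.Rels1
import Cfsg.Agent.Lib.LyRep.Cert.Rels2
import Cfsg.Agent.Lib.LyRep.Cert.Rels3
import Cfsg.Agent.Lib.LyRep.Cert.Rels4
import Cfsg.Agent.Lib.LyRep.Cert.Rels5
import Cfsg.Agent.Lib.LyRep.Cert.Rels6
import Cfsg.Agent.Lib.LyRep.Cert.Rels7
import Cfsg.Agent.Lib.LyRep.Cert.Rels8
import Cfsg.Agent.Lib.LyRep.Cert.Rels9
import Cfsg.Agent.Lib.LyRep.Cert.Rels10
import Cfsg.Agent.Lib.LyRep.Cert.Rels11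
import Cfsg.Agent.Lib.LyRep.Cert.Rels12
import Cfsg.Agent.Lib.LyRep.Cert.Rels13
import Cfsg.Agent.Lib.LyRep.Cert.Rels14
import Cfsg.Agent.Lib.LyRep.Cert.Rels15
import Cfsg.Agent.Lib.LyRep.Cert.Rels16
import Cfsg.Agent.Lib.LyRep.Cert.Rels17
import Cfsg.Agent.Lib.LyRep.Cert.Rels18
import Cfsg.Agent.Lib.LyRep.Cert.Rels19
import Cfsg.Agent.Lib.LyRep.Cert.Rels20
import Cfsg.Agent.Lib.LyRep.Cert.Rels21
import Cfsg.Agent.Lib.LyRep.Cert.Rels22
import Cfsg.Agent.Lib.LyRep.Cert.Rels23
import Cfsg.Agent.Lib.LyRep.Cert.Rels24
import Cfsg.Agent.Lib.LyRep.Cert.Rels25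
import Cfsg.Agent.Lib.LyRep.Cert.Rels26
import Cfsg.Agent.Lib.LyRep.Cert.Rels27
import Cfsg.Agent.Lib.LyRep.Cert.Inv0
import Cfsg.Agent.Lib.LyRep.Cert.Inv1
import Cfsg.Agent.Lib.LyRep.Cert.Inv2
import Cfsg.Agent.Lib.LyRep.Cert.Inv3
import Cfsg.Agent.Lib.LyRep.Cert.Inv4
import Cfsg.Agent.Lib.LyRep.Cert.Inv5
import Cfsg.Agent.Lib.LyTwo.Elements

/-! Generated tables of the representation. -/
set_option autoImplicit false
set_option maxRecDepth 100000

namespace CfsgLib.LyRep.Cert

/-- the matrix of a signed generator -/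
def letterMat : Cfsg.Spor.Ly.Gen × Bool → List ℕ
  | (.a, true) => CfsgLib.LyTwo.Cert.m1
  | (.b, true) => CfsgLib.LyTwo.Cert.m2
  | (.c, true) => CfsgLib.LyTwo.Cert.m3
  | (.d, true) => CfsgLib.LyTwo.Cert.m4
  | (.z, true) => CfsgLib.LyTwo.Cert.m5
  | (.e, true) => g_e
  | (.a1, true) => g_a1
  | (.a2, true) => g_a2
  | (.a3, true) => g_a3
  | (.a4, true) => g_a4
  | (.c1, true) => g_c1
  | (.c2, true) => g_c2
  | (.c3, true) => g_c3
  | (.c4, true) => g_c4
  | (.c5, true) => g_c5
  | (.u, true) => g_u
  | (.x23, true) => g_x23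
  | (.x24, true) => g_x24
  | (.x25, true) => g_x25
  | (.x29, true) => g_x29
  | (.x47, true) => g_x47
  | (.x96, true) => g_x96
  | (.x129, true) => g_x129
  | (.x162, true) => g_x162
  | (.x163, true) => g_x163
  | (.x164, true) => g_x164
  | (.x165, true) => g_x165
  | (.x166, true) => g_x166
  | (.x167, true) => g_x167
  | (.x168, true) => g_x168
  | (.x169, true) => g_x169
  | (.x364, true) => g_x364
  | (.x365, true) => g_x365
  | (.x366, true) => g_x366
  | (.x367, true) => g_x367
  | (.x368, true) => g_x368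
  | (.x369, true) => g_x369
  | (.x370, true) => g_x370
  | (.x371, true) => g_x371
  | (.a, false) => i_a
  | (.b, false) => i_b
  | (.c, false) => i_c
  | (.d, false) => i_d
  | (.z, false) => i_z
  | (.e, false) => i_e
  | (.a1, false) => i_a1
  | (.a2, false) => i_a2
  | (.a3, false) => i_a3
  | (.a4, false) => i_a4
  | (.c1, false) => i_c1
  | (.c2, false) => i_c2
  | (.c3, false) => i_c3
  | (.c4, false) => i_c4
  | (.c5, false) => i_c5
  | (.u, false) => i_u
  | (.x23, false) => i_x23
  | (.x24, false) => i_x24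
  | (.x25, false) => i_x25
  | (.x29, false) => i_x29
  | (.x47, false) => i_x47
  | (.x96, false) => i_x96
  | (.x129, false) => i_x129
  | (.x162, false) => i_x162
  | (.x163, false) => i_x163
  | (.x164, false) => i_x164
  | (.x165, false) => i_x165
  | (.x166, false) => i_x166
  | (.x167, false) => i_x167
  | (.x168, false) => i_x168
  | (.x169, false) => i_x169
  | (.x364, false) => i_x364
  | (.x365, false) => i_x365
  | (.x366, false) => i_x366
  | (.x367, false) => i_x367
  | (.x368, false) => i_x368
  | (.x369, false) => i_x369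
  | (.x370, false) => i_x370
  | (.x371, false) => i_x371

/-- the relators as signed words -/
def relWords : List (List (Cfsg.Spor.Ly.Gen × Bool)) :=
  [[(.a, true), (.a, true), (.a, true), (.a, true), (.a, true), (.a, true), (.a, true), (.a, true)],
   [(.b, true), (.b, true), (.b, true), (.b, true), (.b, true)],
   [(.a, true), (.b, true), (.a, true), (.b, true), (.a, true), (.b, true), (.a, true), (.b, true)],
   [(.a, false), (.a, false), (.b, false), (.a, true), (.a, true), (.b, true)],
   [(.a, false), (.b, false), (.a, true), (.b, true), (.a, false), (.b, false), (.a, true), (.b, true), (.a, false), (.b, false), (.a, true), (.b, true)],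
   [(.c1, true), (.c, false)],
   [(.c2, true), (.a, false), (.c, false), (.a, true)],
   [(.c3, true), (.b, false), (.c, false), (.b, true)],
   [(.c4, true), (.b, true), (.c, false), (.b, false)],
   [(.c5, true), (.c2, false), (.c1, false), (.c2, true), (.c1, true)],
   [(.c1, true), (.c1, true), (.c1, true), (.c1, true), (.c1, true)],
   [(.c5, true), (.c5, true), (.c5, true), (.c5, true), (.c5, true)],
   [(.c1, false), (.c5, false), (.c1, true), (.c5, true)],
   [(.c2, false), (.c5, false), (.c2, true), (.c5, true)],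
   [(.c3, false), (.c5, false), (.c3, true), (.c5, true)],
   [(.c4, false), (.c5, false), (.c4, true), (.c5, true)],
   [(.c1, false), (.c3, false), (.c1, true), (.c3, true), (.c5, true), (.c5, true)],
   [(.c1, false), (.c4, false), (.c1, true), (.c4, true), (.c5, false), (.c5, false)],
   [(.c2, false), (.c3, false), (.c2, true), (.c3, true), (.c5, true)],
   [(.c2, false), (.c4, false), (.c2, true), (.c4, true)],
   [(.c3, false), (.c4, false), (.c3, true), (.c4, true), (.c5, true)],
   [(.a, false), (.c2, true), (.a, true), (.c1, true), (.c1, true)],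
   [(.a, false), (.c3, true), (.a, true), (.c4, false), (.c1, false), (.c3, true), (.c3, true)],
   [(.a, false), (.c4, true), (.a, true), (.c4, false), (.c1, false), (.c4, false), (.c3, true), (.c2, true), (.c1, false)],
   [(.a, false), (.c5, true), (.a, true), (.c5, false), (.c5, false)],
   [(.b, false), (.c2, true), (.b, true), (.c4, true), (.c1, true), (.c4, true), (.c3, false), (.c2, false)],
   [(.b, false), (.c3, true), (.b, true), (.c3, true), (.c3, true), (.c4, false), (.c1, false), (.c1, false)],
   [(.b, false), (.c5, true), (.b, true), (.c5, false)],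
   [(.e, true), (.d, false), (.c1, false), (.d, false), (.b, true), (.a, false), (.b, false), (.c1, false), (.d, false), (.a, false), (.c1, false), (.a, true), (.c1, false), (.a, false), (.c1, true), (.a, true), (.b, true), (.b, true)],
   [(.e, true), (.e, true)],
   [(.e, false), (.c1, true), (.e, true), (.c1, true), (.b, false), (.c3, false), (.b, false)],
   [(.e, false), (.c3, true), (.e, true), (.a, true), (.c4, true), (.c1, true), (.c2, false), (.a, false), (.b, false), (.b, false)],
   [(.e, false), (.c4, true), (.e, true), (.c4, false), (.c3, true), (.b, false), (.b, false)],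
   [(.e, false), (.c5, true), (.e, true), (.c4, true), (.c1, false), (.c3, true), (.c1, false)],
   [(.e, true), (.a, true), (.a, true), (.e, true), (.c4, true), (.c5, false), (.c1, false), (.a, false), (.b, true), (.a, false), (.b, false), (.b, false), (.a, false)],
   [(.e, false), (.b, true), (.e, true), (.c4, true), (.c4, true), (.c3, true), (.c1, false)],
   [(.e, true), (.a, true), (.b, true), (.b, true), (.a, true), (.b, false), (.a, true), (.e, true), (.c4, true), (.c5, false), (.c1, false), (.a, false), (.a, false)],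
   [(.e, true), (.c2, true), (.e, true), (.c2, false), (.e, true), (.c2, true), (.c4, false), (.a, true), (.c3, true), (.a, true), (.a, true), (.a, true)],
   [(.d, true), (.e, false), (.b, false), (.c2, true), (.a, false), (.e, false), (.a, false), (.e, false), (.a, false), (.c5, true), (.c4, true), (.c1, true), (.b, true), (.a, true), (.b, false), (.b, false), (.a, false)],
   [(.d, true), (.d, true), (.a, false), (.a, false), (.a, false), (.a, false)],
   [(.b, false), (.d, false), (.b, true), (.d, true)],
   [(.d, false), (.a, true), (.d, true), (.a, false), (.a, false), (.a, false)],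
   [(.d, true), (.c5, true), (.d, true), (.c5, true), (.d, true), (.c5, true), (.d, true), (.c5, true), (.d, true), (.c5, true)],
   [(.d, true), (.c5, true), (.d, true), (.c5, false), (.d, true), (.c5, true), (.a, false), (.a, false)],
   [(.a1, true), (.a, false)],
   [(.a2, true), (.b, true), (.a, false), (.b, false)],
   [(.a3, true), (.b, true), (.b, true), (.a, false), (.b, false), (.b, false)],
   [(.a4, true), (.b, false), (.b, false), (.a, false), (.b, true), (.b, true)],
   [(.u, true), (.a, false), (.a, false)],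
   [(.x23, true), (.d, false)],
   [(.x24, true), (.d, true)],
   [(.x25, true), (.b, false), (.c, false), (.a, true), (.b, false), (.b, false), (.c, true), (.d, false), (.c, true), (.a, true), (.c, false), (.a, false), (.c, true), (.b, false), (.b, false), (.a, true), (.b, true), (.a, true), (.b, false), (.b, false)],
   [(.x29, true), (.c, false), (.b, false), (.c, false), (.d, false), (.b, true), (.b, true), (.c, false), (.d, false), (.b, true), (.c, false), (.b, false), (.c, false), (.a, false), (.c, true), (.b, false), (.b, false), (.a, true), (.b, false), (.b, false), (.a, true), (.b, false), (.a, false)],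
   [(.x47, true), (.d, true), (.c, true), (.b, false), (.a, true), (.c, true), (.a, true), (.d, true), (.c, true)],
   [(.x96, true), (.d, false), (.b, false)],
   [(.x129, true), (.b, true), (.d, true)],
   [(.x162, true), (.a, false), (.b, false), (.c, true), (.a, false), (.b, true), (.c, true), (.b, false), (.a, true), (.b, true), (.a, true)],
   [(.x163, true), (.b, false), (.c, false), (.b, false), (.a, true), (.c, false), (.a, false), (.b, true), (.b, true)],
   [(.x164, true), (.a, false), (.b, false), (.a, false), (.c, false), (.a, true), (.b, true), (.a, true)],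
   [(.x165, true), (.b, false), (.a, false), (.b, true), (.c, false), (.b, false), (.a, true), (.b, true)],
   [(.x166, true), (.c, true), (.b, true), (.b, true), (.c, false), (.a, false), (.b, false), (.c, false), (.b, true), (.a, true), (.b, false), (.b, false)],
   [(.x167, true), (.a, true), (.a, true), (.a, true)],
   [(.x168, true), (.a, true), (.a, true), (.b, true), (.a, true), (.b, false)],
   [(.x169, true), (.a, true), (.b, true), (.b, true), (.a, false), (.b, false), (.b, false), (.a, false)],
   [(.x364, true), (.b, true), (.a, false), (.b, false), (.a, false), (.b, true), (.a, false), (.c, true), (.a, true), (.b, true), (.c, true), (.b, false), (.d, true), (.c, true), (.b, false), (.a, true), (.c, true), (.b, true), (.d, false), (.a, true)],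
   [(.x365, true), (.d, true), (.b, true), (.c, false), (.a, true), (.c, false), (.a, false), (.c, false), (.d, false), (.c, true), (.c, true), (.a, true), (.b, false), (.c, true), (.b, false), (.c, false), (.a, true), (.b, true), (.b, true), (.a, false)],
   [(.x366, true), (.c, false), (.b, false), (.c, false), (.d, false), (.b, true), (.b, true), (.c, false), (.d, false), (.b, false), (.c, false), (.b, false), (.b, false), (.c, false), (.b, true), (.a, true), (.b, true), (.b, true), (.a, true), (.b, true), (.a, false), (.b, false)],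
   [(.x367, true), (.b, true), (.a, true), (.b, false), (.a, false), (.b, false), (.b, false), (.a, false), (.b, false), (.c, true), (.b, true), (.b, true), (.c, true), (.b, true), (.d, true), (.c, true), (.b, false), (.b, false), (.d, true), (.c, true), (.b, true), (.c, true)],
   [(.x368, true), (.b, true), (.b, true), (.a, true), (.b, true), (.c, true), (.b, true), (.b, true), (.c, false), (.a, false), (.c, true), (.a, true), (.d, true), (.c, true), (.a, false), (.b, true), (.c, true), (.a, false), (.d, true), (.c, true), (.a, true)],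
   [(.x369, true), (.b, true), (.a, false), (.b, true), (.b, true), (.a, false), (.b, true), (.c, true), (.b, true), (.a, true), (.b, false), (.d, true), (.c, true), (.b, true), (.a, true), (.b, false), (.d, true), (.c, true), (.a, true)],
   [(.x370, true), (.a, true), (.b, false), (.a, true), (.b, true), (.b, true), (.a, true), (.c, false), (.a, true), (.b, true), (.a, false), (.d, true), (.c, true), (.a, true), (.c, false), (.b, false), (.c, false), (.a, false), (.d, true)],
   [(.x371, true), (.b, false), (.a, true), (.b, true), (.a, true), (.b, true), (.c, false), (.a, false), (.c, false), (.a, true), (.c, false), (.d, true), (.c, true), (.b, false), (.c, false), (.a, true), (.c, true)],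
   [(.z, false), (.c1, true), (.z, true), (.x162, false)],
   [(.z, false), (.c2, true), (.z, true), (.x163, false)],
   [(.z, false), (.c3, true), (.z, true), (.x164, false)],
   [(.z, false), (.c4, true), (.z, true), (.x165, false)],
   [(.z, false), (.c5, true), (.z, true), (.x166, false)],
   [(.z, false), (.a1, true), (.z, true), (.x167, false)],
   [(.z, false), (.a2, true), (.z, true), (.x168, false)],
   [(.z, false), (.a3, true), (.z, true), (.x169, false)],
   [(.z, true), (.z, true), (.u, false)],
   [(.a4, true), (.z, true), (.a4, true), (.z, true), (.a4, true), (.z, true), (.u, true)],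
   [(.x47, true), (.z, true), (.x364, true), (.z, true), (.x368, true), (.z, true)],
   [(.z, false), (.x24, true), (.z, false), (.x369, true), (.z, true), (.x23, true), (.z, true), (.x29, true)],
   [(.z, true), (.x366, true), (.z, true), (.x365, true), (.z, false), (.x367, true), (.z, false), (.x370, true)],
   [(.z, true), (.x96, true), (.z, true), (.x25, true), (.z, false), (.x129, true), (.z, false), (.x371, true)]]

theorem relWords_eq : Cfsg.Spor.Ly.extra.map FreeGroup.toWord = relWords := by decide +kernel

theorem relWords_ok : ∀ w ∈ relWords, wordCheck 111 (w.map letterMat) = true :=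
  List.forall_mem_cons.2 ⟨rel0, List.forall_mem_cons.2 ⟨rel1, List.forall_mem_cons.2 ⟨rel2, List.forall_mem_cons.2 ⟨rel3, List.forall_mem_cons.2 ⟨rel4, List.forall_mem_cons.2 ⟨rel5, List.forall_mem_cons.2 ⟨rel6, List.forall_mem_cons.2 ⟨rel7, List.forall_mem_cons.2 ⟨rel8, List.forall_mem_cons.2 ⟨rel9, List.forall_mem_cons.2 ⟨rel10, List.forall_mem_cons.2 ⟨rel11, List.forall_mem_cons.2 ⟨rel12, List.forall_mem_cons.2 ⟨rel13, List.forall_mem_cons.2 ⟨rel14, List.forall_mem_cons.2 ⟨rel15, List.forall_mem_cons.2 ⟨rel16, List.forall_mem_cons.2 ⟨rel17, List.forall_mem_cons.2 ⟨rel18, List.forall_mem_cons.2 ⟨rel19, List.forall_mem_cons.2 ⟨rel20, List.forall_mem_cons.2 ⟨rel21, List.forall_mem_cons.2 ⟨rel22, List.forall_mem_cons.2 ⟨rel23, List.forall_mem_cons.2 ⟨rel24, List.forall_mem_cons.2 ⟨rel25, List.forall_mem_cons.2 ⟨rel26, List.forall_mem_cons.2 ⟨rel27, List.forall_mem_cons.2 ⟨rel28, List.forall_mem_cons.2 ⟨rel29, List.forall_mem_cons.2 ⟨rel30, List.forall_mem_cons.2 ⟨rel31, List.forall_mem_cons.2 ⟨rel32, List.forall_mem_cons.2 ⟨rel33,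 List.forall_mem_cons.2 ⟨rel34, List.forall_mem_cons.2 ⟨rel35, List.forall_mem_cons.2 ⟨rel36, List.forall_mem_cons.2 ⟨rel37, List.forall_mem_cons.2 ⟨rel38, List.forall_mem_cons.2 ⟨rel39, List.forall_mem_cons.2 ⟨rel40, List.forall_mem_cons.2 ⟨rel41, List.forall_mem_cons.2 ⟨rel42, List.forall_mem_cons.2 ⟨rel43, List.forall_mem_cons.2 ⟨rel44, List.forall_mem_cons.2 ⟨rel45, List.forall_mem_cons.2 ⟨rel46, List.forall_mem_cons.2 ⟨rel47, List.forall_mem_cons.2 ⟨rel48, List.forall_mem_cons.2 ⟨rel49, List.forall_mem_cons.2 ⟨rel50, List.forall_mem_cons.2 ⟨rel51, List.forall_mem_cons.2 ⟨rel52, List.forall_mem_cons.2 ⟨rel53, List.forall_mem_cons.2 ⟨rel54, List.forall_mem_cons.2 ⟨rel55, List.forall_mem_cons.2 ⟨rel56, List.forall_mem_cons.2 ⟨rel57, List.forall_mem_cons.2 ⟨rel58, List.forall_mem_cons.2 ⟨rel59, List.forall_mem_cons.2 ⟨rel60, List.forall_mem_cons.2 ⟨rel61, List.forall_mem_cons.2 ⟨rel62, List.forall_mem_cons.2 ⟨rel63, List.forall_mem_cons.2 ⟨rel64, List.forall_mem_cons.2 ⟨rel65, List.forall_mem_cons.2 ⟨rel66, List.forall_mem_cons.2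 ⟨rel67, List.forall_mem_cons.2 ⟨rel68, List.forall_mem_cons.2 ⟨rel69, List.forall_mem_cons.2 ⟨rel70, List.forall_mem_cons.2 ⟨rel71, List.forall_mem_cons.2 ⟨rel72, List.forall_mem_cons.2 ⟨rel73, List.forall_mem_cons.2 ⟨rel74, List.forall_mem_cons.2 ⟨rel75, List.forall_mem_cons.2 ⟨rel76, List.forall_mem_cons.2 ⟨rel77, List.forall_mem_cons.2 ⟨rel78, List.forall_mem_cons.2 ⟨rel79, List.forall_mem_cons.2 ⟨rel80, List.forall_mem_cons.2 ⟨rel81, List.forall_mem_cons.2 ⟨rel82, List.forall_mem_cons.2 ⟨rel83, List.forall_mem_cons.2 ⟨rel84, List.forall_mem_cons.2 ⟨rel85, List.forall_mem_nil _⟩⟩⟩⟩⟩⟩⟩⟩⟩⟩⟩⟩⟩⟩⟩⟩⟩⟩⟩⟩⟩⟩⟩⟩⟩⟩⟩⟩⟩⟩⟩⟩⟩⟩⟩⟩⟩⟩⟩⟩⟩⟩⟩⟩⟩⟩⟩⟩⟩⟩⟩⟩⟩⟩⟩⟩⟩⟩⟩⟩⟩⟩⟩⟩⟩⟩⟩⟩⟩⟩⟩⟩⟩⟩⟩⟩⟩⟩⟩⟩⟩⟩⟩⟩⟩⟩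

theorem inverse_ok : ∀ g : Cfsg.Spor.Ly.Gen, ∀ b : Bool,
    CfsgLib.LyTwo.mulCheck 111 111 (letterMat (g, b)) (letterMat (g, !b)) CfsgLib.LyTwo.Cert.m0 = true
  | .a, true => inv_a_1
  | .a, false => inv_a_0
  | .b, true => inv_b_1
  | .b, false => inv_b_0
  | .c, true => inv_c_1
  | .c, false => inv_c_0
  | .d, true => inv_d_1
  | .d, false => inv_d_0
  | .z, true => inv_z_1
  | .z, false => inv_z_0
  | .e, true => inv_e_1
  | .e, false => inv_e_0
  | .a1, true => inv_a1_1
  | .a1, false => inv_a1_0
  | .a2, true => inv_a2_1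
  | .a2, false => inv_a2_0
  | .a3, true => inv_a3_1
  | .a3, false => inv_a3_0
  | .a4, true => inv_a4_1
  | .a4, false => inv_a4_0
  | .c1, true => inv_c1_1
  | .c1, false => inv_c1_0
  | .c2, true => inv_c2_1
  | .c2, false => inv_c2_0
  | .c3, true => inv_c3_1
  | .c3, false => inv_c3_0
  | .c4, true => inv_c4_1
  | .c4, false => inv_c4_0
  | .c5, true => inv_c5_1
  | .c5, false => inv_c5_0
  | .u, true => inv_u_1
  | .u, false => inv_u_0
  | .x23, true => inv_x23_1
  | .x23, false => inv_x23_0
  | .x24, true => inv_x24_1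
  | .x24, false => inv_x24_0
  | .x25, true => inv_x25_1
  | .x25, false => inv_x25_0
  | .x29, true => inv_x29_1
  | .x29, false => inv_x29_0
  | .x47, true => inv_x47_1
  | .x47, false => inv_x47_0
  | .x96, true => inv_x96_1
  | .x96, false => inv_x96_0
  | .x129, true => inv_x129_1
  | .x129, false => inv_x129_0
  | .x162, true => inv_x162_1
  | .x162, false => inv_x162_0
  | .x163, true => inv_x163_1
  | .x163, false => inv_x163_0
  | .x164, true => inv_x164_1
  | .x164, false => inv_x164_0
  | .x165, true => inv_x165_1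
  | .x165, false => inv_x165_0
  | .x166, true => inv_x166_1
  | .x166, false => inv_x166_0
  | .x167, true => inv_x167_1
  | .x167, false => inv_x167_0
  | .x168, true => inv_x168_1
  | .x168, false => inv_x168_0
  | .x169, true => inv_x169_1
  | .x169, false => inv_x169_0
  | .x364, true => inv_x364_1
  | .x364, false => inv_x364_0
  | .x365, true => inv_x365_1
  | .x365, false => inv_x365_0
  | .x366, true => inv_x366_1
  | .x366, false => inv_x366_0
  | .x367, true => inv_x367_1
  | .x367, false => inv_x367_0
  | .x368, true => inv_x368_1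
  | .x368, false => inv_x368_0
  | .x369, true => inv_x369_1
  | .x369, false => inv_x369_0
  | .x370, true => inv_x370_1
  | .x370, false => inv_x370_0
  | .x371, true => inv_x371_1
  | .x371, false => inv_x371_0

end CfsgLib.LyRep.Cert
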